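import Mathlib.LinearAlgebra.DirectSum.Finsupp
import Mathlib.RingTheory.Finiteness.Projective
import Mathlib.Algebra.BigOperators.Pi

/-!
# Coordinates in tensor products with projective modules
-/

namespace GrothLib.TensorCoord

open TensorProduct

universe u v w

variable {R : Type u} [CommRing R] {M : Type v} [AddCommGroup M] [Module R M]

/-- The map `m ⊗ n ↦ φ m • n`. -/
noncomputable def coord (φ : M →ₗ[R] R) (N : Type w) [AddCommGroup N] [Module R N] :
    M ⊗[R] N →ₗ[R] N :=
  (TensorProduct.lid R N).toLinearMap ∘ₗ LinearMap.rTensor N φ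

@[simp]
theorem coord_tmul (φ : M →ₗ[R] R) {N : Type w} [AddCommGroup N] [Module R N] (m : M) (n : N) :
    coord φ N (m ⊗ₜ n) = φ m • n := by simp [coord]

theorem coord_lTensor (φ : M →ₗ[R] R) {L N : Type w} [AddCommGroup L] [Module R L]
    [AddCommGroup N] [Module R N] (f : L →ₗ[R] N) (x : M ⊗[R] L) :
    coord φ N (LinearMap.lTensor M f x) = f (coord φ L x) := by
  induction x using TensorProduct.induction_on with
  | zero => simp
  | tmul m n => simp
  | add a b ha hb => simp [ha, hb]

theorem injective_pi_lTensor [Module.Projective R M] {κ : Type*} {L : Type w} [AddCommGroup L]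
    [Module R L] {T : κ → Type w} [∀ i, AddCommGroup (T i)] [∀ i, Module R (T i)]
    (f : ∀ i, L →ₗ[R] T i) (hf : ∀ x, (∀ i, f i x = 0) → x = 0) :
    Function.Injective (LinearMap.pi fun i => LinearMap.lTensor M (f i) :
      M ⊗[R] L →ₗ[R] ∀ i, M ⊗[R] T i) := by
  classical
  obtain ⟨s, hs⟩ := Module.projective_def'.1 (inferInstance : Module.Projective R M)
  rw [injective_iff_map_eq_zero]
  intro x hx
  have h1 : LinearMap.rTensor L s x = 0 := by
    refine (TensorProduct.finsuppScalarLeft R L M).injective ?_
    rw [map_zero]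
    ext j
    have e : TensorProduct.finsuppScalarLeft R L M (LinearMap.rTensor L s x) j =
        coord (Finsupp.lapply j ∘ₗ s) L x := by
      rw [TensorProduct.finsuppScalarLeft_apply, coord, LinearMap.rTensor_comp]
      rfl
    rw [e, Finsupp.zero_apply]
    refine hf _ fun i => ?_
    rw [← coord_lTensor, show LinearMap.lTensor M (f i) x = 0 from congr_fun hx i, map_zero]
  have h2 := congrArg (LinearMap.rTensor L (Finsupp.linearCombination R (id : M → M))) h1
  rwa [← LinearMap.comp_apply, ← LinearMap.rTensor_comp, hs, LinearMap.rTensor_id,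
    LinearMap.id_apply, map_zero] at h2

theorem exists_coord [Module.Finite R M] [Module.Projective R M] :
    ∃ (n : ℕ) (v : Fin n → M) (φ : Fin n → M →ₗ[R] R),
      ∀ (N : Type w) [AddCommGroup N] [Module R N] (z : M ⊗[R] N),
        ∑ j, v j ⊗ₜ[R] coord (φ j) N z = z := by
  classical
  obtain ⟨n, f, g, -, -, hfg⟩ := Module.Finite.exists_comp_eq_id_of_projective R M
  refine ⟨n, fun j => f (Pi.single j 1), fun j => LinearMap.proj j ∘ₗ g, fun N _ _ z => ?_⟩
  induction z using TensorProduct.induction_on with
  | zero => simp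
  | tmul m t =>
    simp only [coord_tmul, LinearMap.comp_apply, LinearMap.proj_apply, tmul_smul, smul_tmul',
      ← map_smul, ← sum_tmul, ← map_sum]
    rw [← pi_eq_sum_univ' (g m), ← LinearMap.comp_apply, hfg, LinearMap.id_apply]
  | add a b ha hb => simp only [map_add, tmul_add, Finset.sum_add_distrib, ha, hb]

end GrothLib.TensorCoord
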